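import Groth.Agent.Etdl.H440.Geo

/-!
# Functoriality of the iterated projective line in the base

`IterP1.map s d : P S' d ⟶ P S d` for `s : S' ⟶ S`, cartesian over `s`, compatible with the affine
charts; `stmtPM : Geo.StmtPM`.
-/

set_option autoImplicit false
universe u
open CategoryTheory CategoryTheory.Limits AlgebraicGeometry Opposite

namespace Groth.Agent.Etdl.H541.StmtPM

open Groth.Agent.Sga4B Groth.Agent.Sga4B.IterP1 Groth.Agent.Sga4B.P1Geom

variable {S' S : Scheme.{u}} (s : S' ⟶ S)

/-- The map `(ℙ¹_{S'})^d ⟶ (ℙ¹_S)^d`. -/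
noncomputable def map : (d : ℕ) → (P S' d ⟶ P S d)
  | 0 => s
  | d + 1 => P1.toP1 (map d)

theorem map_zero : map s 0 = s := rfl

theorem map_succ (d : ℕ) : map s (d + 1) = P1.toP1 (map s d) := rfl

theorem isPullback_map (d : ℕ) : IsPullback (map s d) (toBase S' d) (toBase S d) s := by
  induction d with
  | zero =>
    have h : IsPullback s (𝟙 S') (𝟙 S) s := IsPullback.of_vert_isIso ⟨by simp⟩
    exact h
  | succ d ih => exact (isPullback_toP1 (map s d)).paste_vert ih

theorem map_toBase (d : ℕ) : map s d ≫ toBase S d = toBase S' d ≫ s := (isPullback_map s d).w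

theorem toInit_map (n : ℕ) :
    AffineSpace.map (ULift.{u} (Fin (n + 1))) s ≫ toInit n S =
      toInit n S' ≫ AffineSpace.map (ULift.{u} (Fin n)) s := by
  refine AffineSpace.hom_ext ?_ fun i => ?_
  · simp [toInit]
  · simp [toInit]

theorem split_map (n : ℕ) :
    AffineSpace.map (ULift.{u} (Fin (n + 1))) s ≫ (split n S).hom =
      (split n S').hom ≫ AffineSpace.map I.{u} (AffineSpace.map (ULift.{u} (Fin n)) s) := by
  change _ ≫ splitHom n S = splitHom n S' ≫ _
  refine AffineSpace.hom_ext ?_ fun i => ?_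
  · rw [Category.assoc, splitHom_over, Category.assoc, AffineSpace.map_over, splitHom_over_assoc,
      toInit_map]
  · rw [Scheme.Hom.comp_appTop, CommRingCat.comp_apply, Scheme.Hom.comp_appTop,
      CommRingCat.comp_apply]
    obtain ⟨i⟩ := i
    obtain rfl : i = 0 := Subsingleton.elim _ _
    rw [splitHom, AffineSpace.homOfVector_appTop_coord, AffineSpace.map_appTop_coord,
      AffineSpace.map_appTop_coord, splitHom, AffineSpace.homOfVector_appTop_coord]

theorem aff_map (d : ℕ) :
    AffineSpace.map (ULift.{u} (Fin d)) s ≫ aff S d = aff S' d ≫ map s d := by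
  induction d with
  | zero =>
    change AffineSpace.map (ULift.{u} (Fin 0)) s ≫ (𝔸(ULift.{u} (Fin 0); S) ↘ S) =
      (𝔸(ULift.{u} (Fin 0); S') ↘ S') ≫ s
    exact AffineSpace.map_over _
  | succ d ih =>
    have h1 : (AffineSpace.map (ULift.{u} (Fin (d + 1))) s ≫ (split d S).hom) ≫
        AffineSpace.map I.{u} (aff S d) ≫ v (P S d) 0 =
        ((split d S').hom ≫ AffineSpace.map I.{u} (aff S' d) ≫ v (P S' d) 0) ≫
          P1.toP1 (map s d) := by
      rw [split_map, Category.assoc, Category.assoc, Category.assoc, v_toP1,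
        ← AffineSpace.map_comp_assoc, ← AffineSpace.map_comp_assoc, ih]
    rw [Category.assoc] at h1
    exact h1

theorem stmtPM : Etdl.H440.Geo.StmtPM.{u} := fun s d =>
  ⟨map s d, isPullback_map s d, aff_map s d⟩

end Groth.Agent.Etdl.H541.StmtPM
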